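import Cfsg.Agent.Lib.TCX.RM11a.D0

set_option autoImplicit false
set_option maxRecDepth 100000
set_option Elab.async false

namespace Cfsg.Agent.TCX.RM11a

noncomputable def l0r0 : Bt Ru := (.node (.node (.node (.node (.leaf ⟨[1],1,0⟩) (.leaf ⟨[0,0,2,1,2],10,0⟩)) (.node (.leaf ⟨[0,2,1,2,0],10,1⟩) (.leaf ⟨[1],1,0⟩))) (.node (.node (.leaf ⟨[3,1,3,0,0,3,0,0],12,5⟩) (.leaf ⟨[1],1,0⟩)) (.node (.leaf ⟨[2,1,2,0,0],10,2⟩) (.leaf ⟨[1],1,0⟩)))) (.node (.node (.node (.leaf ⟨[4,1,2,4,0],7,2⟩) (.leaf ⟨[0,0,0,0,0,0,0],14,0⟩)) (.node (.leaf ⟨[4,1,1,4,2],2,1⟩) (.leaf ⟨[1],1,0⟩))) (.node (.node (.leaf ⟨[2,1,1,1,2],11,1⟩) (.leaf ⟨[1],1,0⟩)) (.node (.leaf ⟨[3,1,1,1,3,1,1,3],13,1⟩) (.leaf ⟨[1],1,0⟩)))))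
noncomputable def l0r1 : Bt Ru := (.node (.node (.node (.node (.leaf ⟨[0],0,0⟩) (.leaf ⟨[2,0,0,0,2],10,4⟩)) (.node (.leaf ⟨[3,0,0,3,0,0,0,3],12,7⟩) (.leaf ⟨[0],0,0⟩))) (.node (.node (.leaf ⟨[2,4,0,0,4],7,4⟩) (.leaf ⟨[2,0,2,1,1],11,5⟩)) (.node (.leaf ⟨[1,2,0,2,1],11,4⟩) (.leaf ⟨[0],0,0⟩)))) (.node (.node (.node (.leaf ⟨[4,2,0,4,1],2,4⟩) (.leaf ⟨[3,1,1,3,0,3,1,1],13,5⟩)) (.node (.leaf ⟨[3,0,3,1,1,1,3,1],13,8⟩) (.leaf ⟨[0],0,0⟩))) (.node (.node (.leaf ⟨[1,1,2,0,2],11,3⟩) (.leaf ⟨[0],0,0⟩)) (.node (.leaf ⟨[1,3,0,3,1,1,1,3],13,7⟩) (.leaf ⟨[0],0,0⟩)))))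
noncomputable def l0r2 : Bt Ru := (.node (.node (.node (.leaf ⟨[2],4,0⟩) (.leaf ⟨[0,0,0,2,1],10,5⟩)) (.node (.leaf ⟨[1,2,0,0,0],10,3⟩) (.leaf ⟨[1,1,1,2,0],11,2⟩))) (.node (.node (.leaf ⟨[3,2,3],9,3⟩) (.leaf ⟨[4,2,4,2,4],8,5⟩)) (.node (.leaf ⟨[0,2,1,1,1],11,0⟩) (.leaf ⟨[2],4,0⟩))))
noncomputable def l0r3 : Bt Ru := (.node (.node (.node (.leaf ⟨[3],5,0⟩) (.leaf ⟨[0,0,0,3,1,3,0,0],12,2⟩)) (.node (.leaf ⟨[0,3,1,1,1,3,1,1],13,0⟩) (.leaf ⟨[3],5,0⟩))) (.node (.node (.leaf ⟨[2,3,2],9,0⟩) (.leaf ⟨[1,1,1,3,1,1,3,0],13,2⟩)) (.node (.leaf ⟨[4,3,4,3,4],6,0⟩) (.leaf ⟨[3],5,0⟩))))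
noncomputable def l0r4 : Bt Ru := (.node (.node (.node (.leaf ⟨[4],3,0⟩) (.leaf ⟨[0,0,4,1,2],7,0⟩)) (.node (.leaf ⟨[2,4,2,4,2],8,0⟩) (.leaf ⟨[1,1,4,2,0],2,2⟩))) (.node (.node (.leaf ⟨[3,4,3,4,3],6,5⟩) (.leaf ⟨[1,2,4,0,0],7,3⟩)) (.node (.leaf ⟨[2,0,4,1,1],2,5⟩) (.leaf ⟨[4],3,0⟩))))
noncomputable def l0r5 : Bt Ru := (.leaf ⟨[0,1],1,0⟩)
noncomputable def l1r0 : Bt Ru := (.node (.leaf ⟨[1],1,0⟩) (.leaf ⟨[3,0,0,0,0,3,0,0,0,0,3,0,0,0],15,14⟩))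
noncomputable def l1r1 : Bt Ru := (.node (.node (.leaf ⟨[0],0,0⟩) (.leaf ⟨[3,1,1,3,0,3,1,1],13,5⟩)) (.node (.leaf ⟨[3,0,3,1,1,1,3,1],13,8⟩) (.leaf ⟨[0],0,0⟩)))
noncomputable def l1r2 : Bt Ru := (.node (.node (.node (.leaf ⟨[3,2,3],9,3⟩) (.leaf ⟨[0,2,1,1,1],11,0⟩)) (.node (.leaf ⟨[1,1,1,2,0],11,2⟩) (.leaf ⟨[2],4,0⟩))) (.node (.node (.leaf ⟨[2],4,0⟩) (.leaf ⟨[2],4,0⟩)) (.node (.leaf ⟨[0,0,0,2,1],10,5⟩) (.leaf ⟨[2],4,0⟩))))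
noncomputable def l1r3 : Bt Ru := (.node (.leaf ⟨[3],5,0⟩) (.leaf ⟨[1,1,1,3,1,1,3,0],13,2⟩))
noncomputable def l1r4 : Bt Ru := (.leaf ⟨[4],3,0⟩)
noncomputable def l1r5 : Bt Ru := (.leaf ⟨[1,1,2,0,2,1],11,4⟩)
noncomputable def l2r0 : Bt Ru := (.leaf ⟨[2,1,1,1,2],11,1⟩)
noncomputable def l2r1 : Bt Ru := (.leaf ⟨[0],0,0⟩)
noncomputable def l2r2 : Bt Ru := (.leaf ⟨[2],4,0⟩)
noncomputable def l2r3 : Bt Ru := (.leaf ⟨[3],5,0⟩)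
noncomputable def l2r4 : Bt Ru := (.leaf ⟨[4],3,0⟩)
noncomputable def l2r5 : Bt Ru := (.leaf ⟨[0,1],1,0⟩)
noncomputable def l3r0 : Bt Ru := (.leaf ⟨[0,0,0,0,0,0,0],14,0⟩)
noncomputable def l3r1 : Bt Ru := (.leaf ⟨[0],0,0⟩)
noncomputable def l3r2 : Bt Ru := (.leaf ⟨[2],4,0⟩)
noncomputable def l3r3 : Bt Ru := (.leaf ⟨[3],5,0⟩)
noncomputable def l3r4 : Bt Ru := (.leaf ⟨[4],3,0⟩)
noncomputable def l3r5 : Bt Ru := (.leaf ⟨[0,1],1,0⟩)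
noncomputable def l0T : List (Bt Nat) := [l0t0, l0t1, l0t2, l0t3, l0t4, (.leaf (nat_lit 0)), l0t6]
noncomputable def l0R : List (Bt Ru) := [l0r0, l0r1, l0r2, l0r3, l0r4, l0r5]
noncomputable def l0c (a lo cnt : Nat) : Nat := chk (gT l0T (nat_lit 14)) (rT l0R) (nat_lit 14) (nat_lit 0x7fc0) (nat_lit 0x4000) (nat_lit 0x3fc0) (nat_lit 5) (nat_lit 15) (nat_lit 511) (nat_lit 0x8000000000ffffff) (nat_lit 13) (nat_lit 24) (nat_lit 15) (nat_lit 0x4d80) a (nfOf [0,1,2,3,4] 55 a) lo cnt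
noncomputable def l0f (a : Nat) : Nat := l0c a 0 1
noncomputable def l0m (lo cnt : Nat) : Nat := chkM (gT l0T (nat_lit 14)) (nat_lit 14) (nat_lit 0x7fc0) (nat_lit 0x4000) (nat_lit 0x3fc0) (nat_lit 5) lo cnt
noncomputable def l1T : List (Bt Nat) := [l1t0, l1t1, l1t2, l1t3, (.leaf (nat_lit 0)), l1t5, l1t6]
noncomputable def l1R : List (Bt Ru) := [l1r0, l1r1, l1r2, l1r3, l1r4, l1r5]
noncomputable def l1c (a lo cnt : Nat) : Nat := chk (gT l1T (nat_lit 14)) (rT l1R) (nat_lit 14) (nat_lit 0x7fc0) (nat_lit 0x4000) (nat_lit 0x3fc0) (nat_lit 5) (nat_lit 15) (nat_lit 511) (nat_lit 0x8000000000ffffff) (nat_lit 7) (nat_lit 12) (nat_lit 7) (nat_lit 0x4240) a (nfOf [0,1,2,3] 9 a) lo cnt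
noncomputable def l1f (a : Nat) : Nat := l1c a 0 1
noncomputable def l1m (lo cnt : Nat) : Nat := chkM (gT l1T (nat_lit 14)) (nat_lit 14) (nat_lit 0x7fc0) (nat_lit 0x4000) (nat_lit 0x3fc0) (nat_lit 5) lo cnt
noncomputable def l2T : List (Bt Nat) := [l2t0, l2t1, l2t2, (.leaf (nat_lit 0)), (.leaf (nat_lit 0)), (.leaf (nat_lit 0)), l2t6]
noncomputable def l2R : List (Bt Ru) := [l2r0, l2r1, l2r2, l2r3, l2r4, l2r5]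
noncomputable def l2c (a lo cnt : Nat) : Nat := chk (gT l2T (nat_lit 14)) (rT l2R) (nat_lit 14) (nat_lit 0x7fc0) (nat_lit 0x4000) (nat_lit 0x3fc0) (nat_lit 5) (nat_lit 15) (nat_lit 511) (nat_lit 0x8000000000ffffff) (nat_lit 3) (nat_lit 4) (nat_lit 3) (nat_lit 0x4040) a (nfOf [0,1,2] 2 a) lo cnt
noncomputable def l2f (a : Nat) : Nat := l2c a 0 1
noncomputable def l2m (lo cnt : Nat) : Nat := chkM (gT l2T (nat_lit 14)) (nat_lit 14) (nat_lit 0x7fc0) (nat_lit 0x4000) (nat_lit 0x3fc0) (nat_lit 5) lo cnt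
noncomputable def l3T : List (Bt Nat) := [l3t0, l3t1, (.leaf (nat_lit 0)), (.leaf (nat_lit 0)), (.leaf (nat_lit 0)), (.leaf (nat_lit 0)), l3t6]
noncomputable def l3R : List (Bt Ru) := [l3r0, l3r1, l3r2, l3r3, l3r4, l3r5]
noncomputable def l3c (a lo cnt : Nat) : Nat := chk (gT l3T (nat_lit 14)) (rT l3R) (nat_lit 14) (nat_lit 0x7fc0) (nat_lit 0x4000) (nat_lit 0x3fc0) (nat_lit 5) (nat_lit 15) (nat_lit 511) (nat_lit 0x8000000000ffffff) (nat_lit 3) (nat_lit 4) (nat_lit 0) (nat_lit 0x41c0) a (nfOf [0,1] 8 a) lo cnt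
noncomputable def l3f (a : Nat) : Nat := l3c a 0 1
noncomputable def l3m (lo cnt : Nat) : Nat := chkM (gT l3T (nat_lit 14)) (nat_lit 14) (nat_lit 0x7fc0) (nat_lit 0x4000) (nat_lit 0x3fc0) (nat_lit 5) lo cnt

end Cfsg.Agent.TCX.RM11a
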