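import Cfsg.Agent.Lib.TCX.RM11a.C0
import Cfsg.Agent.Lib.TCX.Cert

set_option autoImplicit false
set_option maxRecDepth 100000
set_option Elab.async false

namespace Cfsg.Agent.TCX.RM11a

open Cfsg.Agent.CG

/-- The relators used. -/
noncomputable def R : List (List ℕ) := [[1,0],
  [0,1],
  [2,0,4,1,1,4],
  [4,4],
  [2,2],
  [3,3],
  [3,4,3,4,3,4],
  [4,0,0,4,1,2],
  [4,2,4,2,4,2],
  [3,2,3,2],
  [0,0,0,2,1,2],
  [2,0,2,1,1,1],
  [0,0,3,0,0,0,3,1,3],
  [3,0,3,1,1,1,3,1,1],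
  [0,0,0,0,0,0,0,0],
  [3,0,0,0,0,3,0,0,0,0,3,0,0,0,0]]

noncomputable def invL : List ℕ := [1,0,2,3,4]

/-- How the relators used follow from the given ones. -/
noncomputable def hints : List (ℕ × Bool × List ℕ) := [(14,false,[]),
  (14,false,[]),
  (13,true,[]),
  (14,false,[]),
  (14,false,[]),
  (14,false,[]),
  (10,false,[]),
  (13,false,[]),
  (11,false,[]),
  (5,false,[]),
  (4,true,[]),
  (4,false,[]),
  (6,true,[]),
  (6,false,[]),
  (3,false,[]),
  (8,false,[])]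

theorem l0all : ∀ a, a < 6 → l0f a = 0 :=
  allz_of_orR c0
theorem l0ru : allLt (rusChk R (nat_lit 5) l0R) 6 = true := by decide +kernel
theorem l0gm : Glue l0m := fun _ _ _ => chkM_append
theorem l0mm : l0m 55 0 = 0 := c1
theorem l0_ok : Idx R [0,1,2,3,4] [0,1,2,3] 55 :=
  idx_of_chk (cm := 0) (q := 8) (d := 1) (s2 := 24) (full := 1) (f := l0f) (by decide +kernel) (by decide +kernel) (fun _ => rfl) l0all l0ru (by decide +kernel) (by decide +kernel) l0mm

theorem l1all : ∀ a, a < 6 → l1f a = 0 :=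
  allz_of_orR c2
theorem l1ru : allLt (rusChk R (nat_lit 5) l1R) 6 = true := by decide +kernel
theorem l1gm : Glue l1m := fun _ _ _ => chkM_append
theorem l1mm : l1m 9 1 = 0 := c3
theorem l1_ok : Idx R [0,1,2,3] [0,1,2] 9 :=
  idx_of_chk (cm := 1) (q := 8) (d := 1) (s2 := 24) (full := 1) (f := l1f) (by decide +kernel) (by decide +kernel) (fun _ => rfl) l1all l1ru (by decide +kernel) (by decide +kernel) l1mm

theorem l2all : ∀ a, a < 6 → l2f a = 0 :=
  allz_of_orR c4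
theorem l2ru : allLt (rusChk R (nat_lit 5) l2R) 6 = true := by decide +kernel
theorem l2gm : Glue l2m := fun _ _ _ => chkM_append
theorem l2mm : l2m 2 0 = 0 := c5
theorem l2_ok : Idx R [0,1,2] [0,1] 2 :=
  idx_of_chk (cm := 0) (q := 8) (d := 1) (s2 := 24) (full := 1) (f := l2f) (by decide +kernel) (by decide +kernel) (fun _ => rfl) l2all l2ru (by decide +kernel) (by decide +kernel) l2mm

theorem l3all : ∀ a, a < 6 → l3f a = 0 :=
  allz_of_orR c6
theorem l3ru : allLt (rusChk R (nat_lit 5) l3R) 6 = true := by decide +kernel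
theorem l3gm : Glue l3m := fun _ _ _ => chkM_append
theorem l3mm : l3m 8 0 = 0 := c7
theorem l3_ok : Idx R [0,1] [] 8 :=
  idx_of_chk (cm := 0) (q := 8) (d := 1) (s2 := 24) (full := 1) (f := l3f) (by decide +kernel) (by decide +kernel) (fun _ => rfl) l3all l3ru (by decide +kernel) (by decide +kernel) l3mm

theorem bounds : Bounds R [0,1,2,3,4] 7920 := fun _ _ y hR =>
  (show 55 * (9 * (2 * (8 * (1)))) = 7920 by decide +kernel) ▸ l0_ok.bound hR (l1_ok.bound hR (l2_ok.bound hR (l3_ok.bound hR (bound_nil y))))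

/-- The given relators. -/
noncomputable def R0 : List (List ℕ) := [[0,1],
  [2,2],
  [3,3],
  [0,0,0,0,0,0,0,0],
  [2,0,2,1,1,1],
  [3,2,3,2],
  [3,0,3,1,1,1,3,1,1],
  [3,0,0,3,0,0,0,3,1],
  [3,0,0,0,0,3,0,0,0,0,3,0,0,0,0],
  [4,4],
  [3,4,3,4,3,4],
  [4,2,4,2,4,2],
  [4,0,0,0,0,4,0,0,0,0],
  [4,0,0,4,1,2]]

theorem bounds0 : Bounds R0 [0,1,2,3,4] 7920 :=
  bounds_of_ders (n := 5) (inv := invOf invL) (hs := hints) bounds (by decide +kernel) (invOf_ge' rfl)
    (by decide +kernel) (by decide +kernel) (by decide +kernel)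

end Cfsg.Agent.TCX.RM11a
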